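import Groth.Agent.CohCrit13.Formal
import Groth.Agent.ConstEmb13.Main
import Groth.Agent.S13504
import Groth.Agent.S0134
import Mathlib.GroupTheory.FiniteAbelian.Basic

/-!
# The comparison criterion with finite constant coefficients
-/

set_option autoImplicit false
set_option linter.style.haveILetI false
set_option backward.isDefEq.respectTransparency.types false
set_option maxHeartbeats 1000000

universe u

open CategoryTheory CategoryTheory.Limits AlgebraicGeometry Opposite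

namespace Groth.Agent.CohCrit13

open Groth.Agent.EtFound

variable {X Y : Scheme.{u}}

theorem eq_zero_of_coprime {A : Type*} [AddMonoid A] {t : A} {a b : ℕ} (hab : a.Coprime b) (ha : a • t = 0)
    (hb : b • t = 0) : t = 0 := by
  have h1 := addOrderOf_dvd_of_nsmul_eq_zero ha
  have h2 := addOrderOf_dvd_of_nsmul_eq_zero hb
  rw [← AddMonoid.addOrderOf_eq_one_iff]
  exact Nat.eq_one_of_dvd_coprimes hab h1 h2

theorem nsmul_hom_eq_zero_of_sections {A B : EtCoh.Ab X} {ℓ a m : ℕ} (hℓm : ℓ.Coprime m) (f : A ⟶ B)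
    (hN : (ℓ ^ a * m) • f = 0) (hℓ : ∀ (U : X.Etale) (s : EtCoh.sect A U), ∃ K, ℓ ^ K • f.hom.app (op U) s = 0) :
    ℓ ^ a • f = 0 := by
  refine Sheaf.hom_ext (NatTrans.ext (funext fun U => AddCommGrpCat.ext fun s => ?_))
  refine (nsmul_hom_app f _ U.unop s).trans ?_
  obtain ⟨K, hK⟩ := hℓ U.unop s
  have hN' : (ℓ ^ a * m) • f.hom.app (op U.unop) s = 0 := by
    rw [← nsmul_hom_app, hN]
    rfl
  show ℓ ^ a • f.hom.app (op U.unop) s = 0
  rw [← addOrderOf_dvd_iff_nsmul_eq_zero] at hK hN' ⊢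
  exact (Nat.Coprime.coprime_dvd_left hK (hℓm.pow_left K)).dvd_of_dvd_mul_right hN'

/-- The `ℓ`-primary part of a constructible sheaf. -/
theorem exists_primary [CompactSpace X] [QuasiSeparatedSpace X] {ℓ : ℕ} (hℓ : ℓ.Prime) {D : EtCoh.Ab X}
    (hD : EtPBC.IsConstructible D) :
    ∃ (a : ℕ) (D' : EtCoh.Ab X) (r : D ⟶ D') (e : D' ⟶ D), EtPBC.IsConstructible D' ∧ ℓ ^ a • 𝟙 D' = 0 ∧
      (∀ {B : EtCoh.Ab X} (f : D ⟶ B), (∀ (U : X.Etale) (s : EtCoh.sect D U), ∃ K, ℓ ^ K • f.hom.app (op U) s = 0) →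
        r ≫ e ≫ f = f) ∧
      (∀ {A : EtCoh.Ab X} (f : A ⟶ D), (∀ (U : X.Etale) (s : EtCoh.sect A U), ∃ K, ℓ ^ K • f.hom.app (op U) s = 0) →
        f ≫ r ≫ e = f) := by
  obtain ⟨N, hN, hDN⟩ := exists_killedBy X hD
  obtain ⟨a, m, hm, rfl⟩ := Nat.exists_eq_pow_mul_and_not_dvd hN.ne' ℓ hℓ.ne_one
  have hco : ℓ.Coprime m := hℓ.coprime_iff_not_dvd.2 hm
  obtain ⟨c, hc1, hc2⟩ := Nat.chineseRemainder (hco.pow_left a) 1 0
  obtain ⟨d, rfl⟩ : m ∣ c := Nat.modEq_zero_iff_dvd.1 hc2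
  have hz : ((m * d) • 𝟙 D) ≫ (ℓ ^ a • 𝟙 D) = 0 := by
    rw [Preadditive.comp_nsmul, Category.comp_id, ← mul_nsmul', show ℓ ^ a * (m * d) = d * (ℓ ^ a * m) by ring,
      mul_nsmul', hDN, nsmul_zero]
  have hfix : ∀ {A B : EtCoh.Ab X} (f : A ⟶ B), ℓ ^ a • f = 0 → (m * d) • f = f := fun f hf => by
    refine Eq.trans ?_ (one_nsmul f)
    exact nsmul_eq_nsmul_iff_modEq.2 (hc1.of_dvd (addOrderOf_dvd_of_nsmul_eq_zero hf))
  refine ⟨a, kernel (ℓ ^ a • 𝟙 D), kernel.lift _ _ hz, kernel.ι _,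
    (S0131.result (ℓ ^ a • 𝟙 D) _ hN ((killedBy_iff_nsmul _ _).2 hDN) ((killedBy_iff_nsmul _ _).2 hDN) hD hD).1,
    ?_, fun f hf => ?_, fun f hf => ?_⟩
  · rw [← cancel_mono (kernel.ι (ℓ ^ a • 𝟙 D)), zero_comp, Preadditive.nsmul_comp, Category.id_comp]
    have h0 := kernel.condition (ℓ ^ a • 𝟙 D)
    rwa [Preadditive.comp_nsmul, Category.comp_id] at h0
  · rw [kernel.lift_ι_assoc, Preadditive.nsmul_comp, Category.id_comp]
    refine hfix f (nsmul_hom_eq_zero_of_sections hco f ?_ hf)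
    rw [← Category.id_comp f, ← Preadditive.nsmul_comp, hDN, zero_comp]
  · rw [kernel.lift_ι, Preadditive.comp_nsmul, Category.comp_id]
    refine hfix f (nsmul_hom_eq_zero_of_sections hco f ?_ hf)
    rw [← Category.comp_id f, ← Preadditive.comp_nsmul, hDN, comp_zero]

/-- A morphism of constant sheaves. -/
noncomputable def cmap (Z : Scheme.{u}) {M N : Type} [AddCommGroup M] [AddCommGroup N] (g : M →+ N) :
    EtCoh.const Z M ⟶ EtCoh.const Z N :=
  (constantSheaf Z.smallEtaleTopology AddCommGrpCat.{u + 1}).map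
    (AddCommGrpCat.ofHom ((AddEquiv.ulift.symm.toAddMonoidHom.comp g).comp AddEquiv.ulift.toAddMonoidHom))

theorem cmap_add (Z : Scheme.{u}) {M N : Type} [AddCommGroup M] [AddCommGroup N] (g g' : M →+ N) :
    cmap Z (g + g') = cmap Z g + cmap Z g' := by
  haveI : (constantSheaf Z.smallEtaleTopology AddCommGrpCat.{u + 1}).Additive := (EtCore.constAdj Z).left_adjoint_additive
  rw [cmap, cmap, cmap, ← Functor.map_add]
  rfl

theorem cmap_id (Z : Scheme.{u}) (M : Type) [AddCommGroup M] : cmap Z (AddMonoidHom.id M) = 𝟙 _ :=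
  (constantSheaf Z.smallEtaleTopology AddCommGrpCat.{u + 1}).map_id _

theorem cmap_comp (Z : Scheme.{u}) {M N P : Type} [AddCommGroup M] [AddCommGroup N] [AddCommGroup P]
    (g : M →+ N) (g' : N →+ P) : cmap Z (g'.comp g) = cmap Z g ≫ cmap Z g' := by
  rw [cmap, cmap, cmap, ← Functor.map_comp]
  rfl

theorem nsmul_const_zmod (Z : Scheme.{u}) (n : ℕ) : n • 𝟙 (EtCoh.const Z (ZMod n)) = 0 := by
  let Φ : (ZMod n →+ ZMod n) →+ (EtCoh.const Z (ZMod n) ⟶ EtCoh.const Z (ZMod n)) := AddMonoidHom.mk' (cmap Z) (cmap_add Z)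
  rw [← cmap_id]
  show n • Φ (AddMonoidHom.id _) = 0
  rw [← map_nsmul, show n • AddMonoidHom.id (ZMod n) = 0 from AddMonoidHom.ext fun x => ?_, map_zero]
  simp

theorem nsmul_push {Z : Scheme.{u}} (p : Z ⟶ X) [EtCoh.BCCont p] {n : ℕ} {F : EtCoh.Ab Z} (hF : n • 𝟙 F = 0) :
    n • 𝟙 ((EtCoh.push p).obj F) = 0 := by
  rw [← (EtCoh.push p).map_id, ← Functor.map_nsmul, hF, Functor.map_zero]

variable (h : Y ⟶ X) [CompactSpace X] [QuasiSeparatedSpace X]

/-- The embedding into sums of direct images of cyclic constant sheaves. -/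
theorem exists_emb {ℓ : ℕ} (hℓ : ℓ.Prime) {F : EtCoh.Ab X} (hF : EtPBC.IsConstructible F) {k : ℕ}
    (hFk : ℓ ^ k • 𝟙 F = 0) :
    ∃ (b : ℕ) (Z : Fin b → Scheme.{u}) (p : ∀ i, Z i ⟶ X) (_ : ∀ i, IsFinite (p i))
      (_ : ∀ i, LocallyOfFinitePresentation (p i)) (e : Fin b → ℕ)
      (u : F ⟶ ⨁ fun i => (EtCoh.push (p i)).obj (EtCoh.const (Z i) (ZMod (ℓ ^ e i)))), Mono u := by
  classical
  obtain ⟨n, W, f, hf, hfp, M, hM, hMf, h0⟩ := ConstEmb13.exists_mono F hF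
  obtain ⟨ι₀, hι₀⟩ := h0
  choose κ hκ q hq e φ using fun i => (haveI := hMf i; AddCommGroup.equiv_directSum_zmod_of_finite (M i))
  haveI : ∀ i, Fintype (κ i) := hκ
  let S := Σ i : Fin n, {j : κ i // q i j = ℓ}
  let σ := (Fintype.equivFin S).symm
  let pr : ∀ i j, M i →+ ZMod (q i j ^ e i j) := fun i j =>
    (DirectSum.component ℤ (κ i) (fun j => ZMod (q i j ^ e i j)) j).toAddMonoidHom.comp (φ i).some.toAddMonoidHom
  let inj : ∀ i j, ZMod (q i j ^ e i j) →+ M i := fun i j =>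
    (φ i).some.symm.toAddMonoidHom.comp (DirectSum.of (fun j => ZMod (q i j ^ e i j)) j)
  have tot : ∀ i, ∑ j, (inj i j).comp (pr i j) = AddMonoidHom.id (M i) := fun i => by
    refine AddMonoidHom.ext fun x => ?_
    rw [AddMonoidHom.finsetSum_apply]
    apply (φ i).some.injective
    rw [map_sum]
    simp only [inj, pr, AddMonoidHom.comp_apply, AddEquiv.coe_toAddMonoidHom, AddEquiv.apply_symm_apply,
      AddMonoidHom.id_apply, LinearMap.toAddMonoidHom_coe, ← DirectSum.lof_eq_of ℤ]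
    exact (DirectSum.sum_univ_of _).trans rfl
  let w : ∀ i j, F ⟶ (EtCoh.push (f i)).obj (EtCoh.const (W i) (ZMod (q i j ^ e i j))) := fun i j =>
    ι₀ ≫ biproduct.π _ i ≫ (EtCoh.push (f i)).map (cmap (W i) (pr i j))
  have hw : ∀ i j, q i j ≠ ℓ → w i j = 0 := fun i j hne => by
    refine eq_zero_of_coprime (((Nat.coprime_primes hℓ (hq i j)).2 (Ne.symm hne)).pow k (e i j)) ?_ ?_
    · rw [← Category.id_comp (w i j), ← Preadditive.nsmul_comp, hFk, zero_comp]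
    · rw [← Category.comp_id (w i j), ← Preadditive.comp_nsmul, nsmul_push (f i) (nsmul_const_zmod _ _), comp_zero]
  have hiso : ∀ s : S, ZMod (q s.1 s.2.1 ^ e s.1 s.2.1) = ZMod (ℓ ^ e s.1 s.2.1) := fun s => by rw [s.2.2]
  have hcast : ∀ s : S, ∃ v : F ⟶ (EtCoh.push (f s.1)).obj (EtCoh.const (W s.1) (ZMod (ℓ ^ e s.1 s.2.1))),
      ∀ {A : EtCoh.Ab X} (g : A ⟶ F), g ≫ v = 0 → g ≫ w s.1 s.2.1 = 0 := fun s => by
    have : ∀ (a : ℕ), a = q s.1 s.2.1 → ∃ v : F ⟶ (EtCoh.push (f s.1)).obj (EtCoh.const (W s.1) (ZMod (a ^ e s.1 s.2.1))),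
        ∀ {A : EtCoh.Ab X} (g : A ⟶ F), g ≫ v = 0 → g ≫ w s.1 s.2.1 = 0 := by
      rintro a rfl
      exact ⟨w s.1 s.2.1, fun g hg => hg⟩
    exact this ℓ s.2.2.symm
  choose v hv using hcast
  refine ⟨Fintype.card S, fun t => W (σ t).1, fun t => f (σ t).1, fun t => hf _, fun t => hfp _,
    fun t => e (σ t).1 (σ t).2.1, biproduct.lift fun t => v (σ t), Preadditive.mono_of_cancel_zero _ fun {A} g hg => ?_⟩
  have hz : ∀ i j, g ≫ w i j = 0 := fun i j => by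
    by_cases hqj : q i j = ℓ
    · obtain ⟨t, ht⟩ := σ.surjective ⟨i, j, hqj⟩
      have h1 := congrArg (· ≫ biproduct.π (fun t => (EtCoh.push (f (σ t).1)).obj (EtCoh.const (W (σ t).1) (ZMod (ℓ ^ e (σ t).1 (σ t).2.1)))) t) hg
      simp only [Category.assoc, biproduct.lift_π, zero_comp] at h1
      have h2 := hv (σ t) g h1
      rw [ht] at h2
      exact h2
    · rw [hw i j hqj, comp_zero]
  rw [← cancel_mono ι₀, zero_comp]
  refine biproduct.hom_ext _ _ fun i => ?_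
  rw [zero_comp, Category.assoc]
  let Φ : (M i →+ M i) →+ (EtCoh.const (W i) (M i) ⟶ EtCoh.const (W i) (M i)) := AddMonoidHom.mk' (cmap (W i)) (cmap_add _)
  have hsum : (EtCoh.push (f i)).map (∑ j, cmap (W i) (pr i j) ≫ cmap (W i) (inj i j)) = 𝟙 _ := by
    simp only [← cmap_comp]
    rw [← (EtCoh.push (f i)).map_id, ← cmap_id, ← tot i]
    exact congrArg _ (map_sum Φ _ _).symm
  rw [← Category.comp_id (g ≫ ι₀ ≫ biproduct.π _ i), ← hsum, Functor.map_sum, Preadditive.comp_sum]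
  refine Finset.sum_eq_zero fun j _ => ?_
  have h2 := congrArg (· ≫ (EtCoh.push (f i)).map (cmap (W i) (inj i j))) (hz i j)
  simp only [w, Category.assoc, zero_comp, ← Functor.map_comp] at h2
  simpa only [Category.assoc] using h2

variable [CompactSpace Y] [QuasiSeparatedSpace Y] [PreservesFiniteLimits (EtCoh.pull h)]

/-- The comparison criterion. -/
theorem comparison_criterion (ℓ : ℕ) (hℓ : ℓ.Prime) (n : ℕ)
    (hb : ∀ (X' : Scheme.{u}) (p : X' ⟶ X) [IsFinite p] [EtCoh.BCCont (pullback.fst p h)]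
      [PreservesFiniteLimits (EtCoh.pull (pullback.fst p h))] (ν : ℕ),
      Function.Injective (EtCore.Hpull (pullback.fst p h) (EtCoh.const X' (ZMod (ℓ ^ ν))) 0) ∧
      ∀ i ≤ n, Function.Surjective (EtCore.Hpull (pullback.fst p h) (EtCoh.const X' (ZMod (ℓ ^ ν))) i))
    (F : EtCoh.Ab X) (hF : ∀ (U : X.Etale) (s : EtCoh.sect F U), ∃ k : ℕ, ℓ ^ k • s = 0) :
    (∀ i ≤ n, Function.Bijective (EtCore.Hpull h F i)) ∧
      Function.Injective (EtCore.Hpull h F (n + 1)) := by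
  let C : EtCoh.Ab X → Prop := fun G => EtPBC.IsConstructible G ∧ ∃ k, ℓ ^ k • 𝟙 G = 0
  have hdvd : ∀ {G : EtCoh.Ab X} {a b : ℕ}, ℓ ^ a • 𝟙 G = 0 → ℓ ^ (a + b) • 𝟙 G = 0 := fun {G a b} hG => by
    rw [pow_add, mul_comm, mul_nsmul', hG, nsmul_zero]
  have hcok : ∀ {F G : EtCoh.Ab X} (u : F ⟶ G), C F → C G → C (cokernel u) := fun {F G} u ⟨hF, a, ha⟩ ⟨hG, b, hb'⟩ => by
    refine ⟨(S0131.result u (ℓ ^ (a + b)) (pow_pos hℓ.pos _) ((killedBy_iff_nsmul _ _).2 (hdvd ha))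
      ((killedBy_iff_nsmul _ _).2 (by rw [add_comm]; exact hdvd hb')) hF hG).2, b, ?_⟩
    rw [← cancel_epi (cokernel.π u), comp_zero, Preadditive.comp_nsmul, Category.comp_id,
      ← Category.id_comp (cokernel.π u), ← Preadditive.nsmul_comp, hb', zero_comp]
  have hemb : ∀ F, C F → ∃ (G : EtCoh.Ab X) (u : F ⟶ G) (_ : Mono u), C (cokernel u) ∧
      Function.Injective (EtCore.Hpull h G 0) ∧ ∀ i ≤ n, Function.Surjective (EtCore.Hpull h G i) := by
    rintro F ⟨hFc, k, hFk⟩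
    obtain ⟨b, Z, p, hp, hfp, e, u, hu⟩ := exists_emb hℓ hFc hFk
    haveI : ∀ i, NeZero (ℓ ^ e i) := fun i => ⟨(pow_pos hℓ.pos _).ne'⟩
    refine ⟨_, u, hu, hcok u ⟨hFc, k, hFk⟩ ⟨isConstructible_biproduct _ fun i => by
      haveI := hp i; haveI := hfp i
      exact S0137.result (p i) _ (ConstEmb13.isConstructible_const _ _), Finset.univ.sum e, ?_⟩, ?_, fun i hi => ?_⟩
    · refine biproduct.hom_ext _ _ fun i => ?_
      rw [zero_comp, Preadditive.nsmul_comp, Category.id_comp,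
        ← Finset.add_sum_erase _ _ (Finset.mem_univ i), pow_add, mul_comm, mul_nsmul']
      refine (congrArg _ ?_).trans (nsmul_zero _)
      rw [← Category.comp_id (biproduct.π _ i), ← Preadditive.comp_nsmul, nsmul_push (p i) (nsmul_const_zmod _ _), comp_zero]
    · exact (comparison_biproduct h _ 0).1 fun j => by
        haveI := hp j
        haveI : PreservesFiniteLimits (EtCoh.pull (pullback.fst (p j) h)) := EtFound.pull_preservesFiniteLimits _
        exact (comparison_push h (p j) _ 0).1 (hb _ (p j) (e j)).1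
    · exact (comparison_biproduct h _ i).2 fun j => by
        haveI := hp j
        haveI : PreservesFiniteLimits (EtCoh.pull (pullback.fst (p j) h)) := EtFound.pull_preservesFiniteLimits _
        exact (comparison_push h (p j) _ i).2 ((hb _ (p j) (e j)).2 i hi)
  have heff : ∀ F, C F → ∀ (i : ℕ) (α : EtCoh.H X F (i + 1)), ∃ (G : EtCoh.Ab X) (u : F ⟶ G) (_ : Mono u),
      C G ∧ C (cokernel u) ∧ EtLimit.hmap u (i + 1) α = 0 := by
    rintro F ⟨hFc, k, hFk⟩ i α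
    obtain ⟨G₀, u₀, hG₀, hu₀, hα⟩ := S13504.result X F hFc (i + 1) (Nat.succ_pos i) α
    obtain ⟨a, G, r, e, hG, hGa, -, hfix⟩ := exists_primary hℓ hG₀
    have hre : u₀ ≫ r ≫ e = u₀ := hfix u₀ fun U s => ⟨k, by
      rw [← nsmul_hom_app, ← Category.id_comp u₀, ← Preadditive.nsmul_comp, hFk, zero_comp]; rfl⟩
    haveI : Mono ((u₀ ≫ r) ≫ e) := by rw [Category.assoc, hre]; exact hu₀
    haveI : Mono (u₀ ≫ r) := mono_of_mono (u₀ ≫ r) e
    refine ⟨G, u₀ ≫ r, inferInstance, ⟨hG, a, hGa⟩, hcok _ ⟨hFc, k, hFk⟩ ⟨hG, a, hGa⟩, ?_⟩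
    rw [← EtLimit.hmap_comp]
    exact (congrArg (EtLimit.hmap r (i + 1)) hα).trans (map_zero _)
  have main := comparison h C n hemb heff
  -- passage to the colimit
  have htor : EtCoh.IsTorsion F := fun U s x => by
    obtain ⟨k, hk⟩ := hF U s
    refine ⟨U, 𝟙 U, ⟨x, rfl⟩, isOfFinAddOrder_iff_nsmul_eq_zero.2 ⟨ℓ ^ k, pow_pos hℓ.pos _, ?_⟩⟩
    rw [op_id, CategoryTheory.Functor.map_id]
    exact hk
  obtain ⟨J, _, _, D, c₀, hc₀, hD, ⟨eF⟩⟩ := S0134.result X F htor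
  let c := c₀.extend eF.hom
  let hc : IsColimit c := IsColimit.extendIso eF.hom hc₀
  haveI := EtLC12.QcqsAcyclic.preservesColimitsOfShape_HF X
  haveI : PreservesColimitsOfSize.{u + 1, u + 1} (EtCoh.pull h) := (EtCoh.pullPushAdj h).leftAdjoint_preservesColimits
  have hfix : ∀ j, ∃ (G : EtCoh.Ab X) (r : D.obj j ⟶ G) (e : G ⟶ D.obj j), C G ∧ r ≫ e ≫ c.ι.app j = c.ι.app j := fun j => by
    obtain ⟨a, G, r, e, hG, hGa, hfix, -⟩ := exists_primary hℓ (hD j)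
    exact ⟨G, r, e, ⟨hG, a, hGa⟩, hfix _ fun U s => hF U _⟩
  choose G r e hCG hre using hfix
  have inj : ∀ i, i ≤ n + 1 → Function.Injective (EtCore.Hpull h F i) := fun i hi => by
    haveI := EtLC12.QcqsAcyclic.preservesColimitsOfShape_HF X i J
    haveI := EtLC12.QcqsAcyclic.preservesColimitsOfShape_HF Y i J
    refine (injective_iff_map_eq_zero _).2 fun x hx => ?_
    obtain ⟨j, x, rfl⟩ := Concrete.isColimit_exists_rep _ (isColimitOfPreserves (EtCoh.HF X i) hc) x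
    change EtCore.Hpull h c.pt i (EtLimit.hmap (c.ι.app j) i x) = 0 at hx
    rw [Hpull_hmap] at hx
    obtain ⟨j', φ, φ', hφ⟩ := Concrete.isColimit_exists_of_rep_eq _
      (isColimitOfPreserves (EtCoh.pull h ⋙ EtCoh.HF Y i) hc) (EtCore.Hpull h (D.obj j) i x) (0 : EtCoh.H Y ((EtCoh.pull h).obj (D.obj j)) i)
      (hx.trans (map_zero (EtLimit.hmap ((EtCoh.pull h).map (c.ι.app j)) i)).symm)
    change EtLimit.hmap ((EtCoh.pull h).map (D.map φ)) i (EtCore.Hpull h (D.obj j) i x) =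
      EtLimit.hmap ((EtCoh.pull h).map (D.map φ')) i 0 at hφ
    rw [map_zero, ← Hpull_hmap] at hφ
    have h0 : EtLimit.hmap (r j') i (EtLimit.hmap (D.map φ) i x) = 0 := (main i hi _ (hCG j')).1 (by
      rw [map_zero, Hpull_hmap, hφ, map_zero])
    show EtLimit.hmap (c.ι.app j) i x = 0
    rw [← c.w φ, ← hre j', ← EtLimit.hmap_comp, ← EtLimit.hmap_comp, h0, map_zero]
  refine ⟨fun i hi => ⟨inj i (by omega), fun y => ?_⟩, inj (n + 1) le_rfl⟩
  haveI := EtLC12.QcqsAcyclic.preservesColimitsOfShape_HF Y i J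
  obtain ⟨j, y, rfl⟩ := Concrete.isColimit_exists_rep _ (isColimitOfPreserves (EtCoh.pull h ⋙ EtCoh.HF Y i) hc) y
  obtain ⟨x, hx⟩ := (main i (by omega) _ (hCG j)).2 hi (EtLimit.hmap ((EtCoh.pull h).map (r j)) i y)
  refine ⟨EtLimit.hmap (e j ≫ c.ι.app j) i x, ?_⟩
  show EtCore.Hpull h c.pt i _ = EtLimit.hmap ((EtCoh.pull h).map (c.ι.app j)) i y
  rw [Hpull_hmap, hx, EtLimit.hmap_comp, ← Functor.map_comp, hre]

end Groth.Agent.CohCrit13
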