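import Groth.Agent.EtLimit.HTools
import Groth.Agent.EtBC.Killed
import Groth.Agent.S14389
import Groth.Agent.BigSiteLib.HofPushEt
import Groth.Agent.EtFound.IntegralBaseChange
import Groth.Agent.EtFound.PushExact
import Groth.Agent.SiteBase.LerayTop
import Groth.Agent.EtFound.EdgeVanish

/-!
# Comparison of cohomology: the formal induction and finite direct images
-/

set_option autoImplicit false
set_option linter.style.haveILetI false
set_option backward.isDefEq.respectTransparency.types false
set_option maxHeartbeats 1000000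

universe u

open CategoryTheory CategoryTheory.Limits AlgebraicGeometry Opposite CategoryTheory.Abelian

namespace Groth.Agent.CohCrit13

open Groth.Agent.EtLimit

variable {X Y : Scheme.{u}} (h : Y ⟶ X) [PreservesFiniteLimits (EtCoh.pull h)]

theorem hThen_id {F : EtCoh.Ab X} (q : ℕ) (x : EtCoh.H X F q) :
    hThen h F (𝟙 ((EtCoh.pull h).obj F)) q x = EtCore.Hpull h F q x :=
  Ext.comp_mk₀_id _

omit [PreservesFiniteLimits (EtCoh.pull h)] in
theorem hmap_bijective_of_isIso {F G : EtCoh.Ab X} (a : F ⟶ G) [IsIso a] (q : ℕ) :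
    Function.Bijective (hmap a q) :=
  EtFound.postcomp_bijective a q

theorem Hpull_hmap {F G : EtCoh.Ab X} (a : F ⟶ G) (q : ℕ) (x : EtCoh.H X F q) :
    EtCore.Hpull h G q (hmap a q x) = hmap ((EtCoh.pull h).map a) q (EtCore.Hpull h F q x) := by
  rw [← hThen_id, ← hThen_id]
  exact HpullThen_hmap h (𝟙 _) (𝟙 _) a ((EtCoh.pull h).map a) ((Category.comp_id _).trans (Category.id_comp _).symm) q x

theorem Hpull_hδ {S : ShortComplex (EtCoh.Ab X)} (hS : S.ShortExact)
    (hS' : (S.map (EtCoh.pull h)).ShortExact) {n n' : ℕ} (hn : n + 1 = n') (x : EtCoh.H X S.X₃ n) :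
    EtCore.Hpull h S.X₁ n' (hδ hS hn x) = hδ hS' hn (EtCore.Hpull h S.X₃ n x) := by
  refine (hThen_id h _ _).symm.trans ?_
  refine (HpullThen_hδ h hS hS' (𝟙 _) (𝟙 _) (𝟙 _) ((Category.id_comp _).trans (Category.comp_id _).symm)
    ((Category.id_comp _).trans (Category.comp_id _).symm) hn x).trans ?_
  exact congrArg _ (hThen_id h n x)

omit [PreservesFiniteLimits (EtCoh.pull h)] in
theorem hmap_sum {F G : EtCoh.Ab X} {ι : Type*} (s : Finset ι) (a : ι → (F ⟶ G)) (q : ℕ) (x : EtCoh.H X F q) :
    ∑ j ∈ s, hmap (a j) q x = hmap (∑ j ∈ s, a j) q x :=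
  (map_sum (AddMonoidHom.mk' (fun b : F ⟶ G => hmap b q x) fun b b' => by
    show Ext.comp x (Ext.mk₀ (b + b')) (add_zero q) = _
    rw [Ext.mk₀_add, Ext.comp_add]
    rfl) a s).symm

theorem hmap_id {F : EtCoh.Ab X} (q : ℕ) (x : EtCoh.H X F q) : hmap (𝟙 F) q x = x :=
  Ext.comp_mk₀_id _

/-- The formal induction. -/
theorem comparison (C : EtCoh.Ab X → Prop) (n : ℕ)
    (hemb : ∀ F, C F → ∃ (G : EtCoh.Ab X) (u : F ⟶ G) (_ : Mono u), C (cokernel u) ∧
      Function.Injective (EtCore.Hpull h G 0) ∧ ∀ i ≤ n, Function.Surjective (EtCore.Hpull h G i))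
    (heff : ∀ F, C F → ∀ (i : ℕ) (α : EtCoh.H X F (i + 1)), ∃ (G : EtCoh.Ab X) (u : F ⟶ G) (_ : Mono u),
      C G ∧ C (cokernel u) ∧ hmap u (i + 1) α = 0) :
    ∀ i, i ≤ n + 1 → ∀ F, C F → Function.Injective (EtCore.Hpull h F i) ∧
      (i ≤ n → Function.Surjective (EtCore.Hpull h F i)) := by
  haveI : PreservesColimitsOfSize.{0, 0} (EtCoh.pull h) := (EtCoh.pullPushAdj h).leftAdjoint_preservesColimits
  haveI : (EtCoh.pull h).Additive := Functor.additive_of_preserves_binary_products _
  let E : ∀ {F G : EtCoh.Ab X} (u : F ⟶ G), ShortComplex (EtCoh.Ab X) :=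
    fun u => ShortComplex.mk u (cokernel.π u) (cokernel.condition u)
  have hE : ∀ {F G : EtCoh.Ab X} (u : F ⟶ G) [Mono u], (E u).ShortExact := fun u _ =>
    { exact := ShortComplex.exact_of_g_is_cokernel _ (cokernelIsCokernel _) }
  intro i
  induction i with
  | zero =>
    intro _
    have inj : ∀ F, C F → Function.Injective (EtCore.Hpull h F 0) := fun F hF => by
      obtain ⟨G, u, _, -, hG, -⟩ := hemb F hF
      refine fun a b hab => hmap_zero_injective u (hG ?_)
      rw [Hpull_hmap, Hpull_hmap, hab]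
    intro F hF
    refine ⟨inj F hF, fun _ y => ?_⟩
    obtain ⟨G, u, _, hQ, -, hG⟩ := hemb F hF
    obtain ⟨a, ha⟩ := hG 0 (Nat.zero_le _) (hmap ((EtCoh.pull h).map u) 0 y)
    obtain ⟨x, rfl⟩ : ∃ x, hmap u 0 x = a := by
      refine exists_hmap_of_hmap_eq_zero (hE u) 0 a (inj _ hQ ?_)
      rw [map_zero]
      refine (Hpull_hmap h (cokernel.π u) 0 a).trans ?_
      rw [ha, hmap_comp, ← Functor.map_comp, cokernel.condition, Functor.map_zero]
      exact hmap_zero_map 0 y
    haveI : Mono ((EtCoh.pull h).map u) := inferInstance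
    exact ⟨x, hmap_zero_injective ((EtCoh.pull h).map u) ((Hpull_hmap h u 0 x).symm.trans ha)⟩
  | succ i ih =>
    intro hi
    have inj : ∀ F, C F → Function.Injective (EtCore.Hpull h F (i + 1)) := fun F hF => by
      refine (injective_iff_map_eq_zero _).2 fun x hx => ?_
      obtain ⟨G, u, _, hG, hQ, hx0⟩ := heff F hF i x
      have hS' := (hE u).map_of_exact (EtCoh.pull h)
      obtain ⟨c, rfl⟩ := exists_hδ_of_hmap_eq_zero (hE u) (rfl : i + 1 = i + 1) x hx0
      obtain ⟨a, ha⟩ := exists_hmap_of_hδ_eq_zero hS' (rfl : i + 1 = i + 1) _ ((Hpull_hδ h (hE u) hS' _ c).symm.trans hx)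
      obtain ⟨a₀, rfl⟩ := (ih (by omega) G hG).2 (by omega) a
      have hc : hmap (cokernel.π u) i a₀ = c :=
        (ih (by omega) _ hQ).1 ((Hpull_hmap h (cokernel.π u) i a₀).trans ha)
      rw [← hc]
      exact hδ_hmap_g (hE u) rfl a₀
    intro F hF
    refine ⟨inj F hF, fun hin y => ?_⟩
    obtain ⟨G, u, _, hQ, -, hG⟩ := hemb F hF
    have hS' := (hE u).map_of_exact (EtCoh.pull h)
    obtain ⟨a, ha⟩ := hG (i + 1) hin (hmap ((EtCoh.pull h).map u) (i + 1) y)
    obtain ⟨x, rfl⟩ : ∃ x, hmap u (i + 1) x = a := by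
      refine exists_hmap_of_hmap_eq_zero (hE u) (i + 1) a (inj _ hQ ?_)
      rw [map_zero]
      refine (Hpull_hmap h (cokernel.π u) (i + 1) a).trans ?_
      rw [ha, hmap_comp, ← Functor.map_comp, cokernel.condition, Functor.map_zero]
      exact hmap_zero_map _ y
    obtain ⟨c, hc⟩ := exists_hδ_of_hmap_eq_zero hS' (rfl : i + 1 = i + 1) (y - EtCore.Hpull h F (i + 1) x) (by
      show hmap ((EtCoh.pull h).map u) (i + 1) _ = 0
      rw [map_sub]
      exact sub_eq_zero.2 (ha.symm.trans (Hpull_hmap h u (i + 1) x)))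
    obtain ⟨c₀, rfl⟩ := (ih (by omega) _ hQ).2 (by omega) c
    refine ⟨x + hδ (hE u) rfl c₀, ?_⟩
    rw [map_add]
    exact (congrArg (_ + ·) ((Hpull_hδ h (hE u) hS' _ c₀).trans hc)).trans (add_sub_cancel _ _)

variable {X' : Scheme.{u}} (p : X' ⟶ X) [IsFinite p]

/-- Comparison for a direct image along a finite morphism. -/
theorem comparison_push (C : EtCoh.Ab X') [PreservesFiniteLimits (EtCoh.pull (pullback.fst p h))] (q : ℕ) :
    (Function.Injective (EtCore.Hpull (pullback.fst p h) C q) →
      Function.Injective (EtCore.Hpull h ((EtCoh.push p).obj C) q)) ∧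
    (Function.Surjective (EtCore.Hpull (pullback.fst p h) C q) →
      Function.Surjective (EtCore.Hpull h ((EtCoh.push p).obj C) q)) := by
  haveI : IsFinite (pullback.snd p h) := MorphismProperty.pullback_snd _ _ ‹IsFinite p›
  haveI : PreservesFiniteLimits (EtCoh.pull p) := EtFound.pull_preservesFiniteLimits _
  haveI : PreservesFiniteLimits (EtCoh.pull (pullback.snd p h)) := EtFound.pull_preservesFiniteLimits _
  have key := fun ζ => S14389.result p h (pullback.snd p h) (pullback.fst p h) pullback.condition C q ζ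
  haveI : IsIso (EtCoh.baseChange0 p h (pullback.snd p h) (pullback.fst p h) pullback.condition C) :=
    EtFound.isIso_baseChange_of_integral (IsPullback.of_hasPullback p h) C _
      (EtFound.baseChange0_unit p h (pullback.snd p h) (pullback.fst p h) pullback.condition C)
  have hp : Function.Bijective (EtLim.HofPush p C q) := BigSiteLib.hofPush_bijective p C (fun j hj => by
    obtain ⟨m, rfl⟩ := Nat.exists_eq_succ_of_ne_zero hj.ne'
    have := EtFound.push_preservesFiniteLimits p
    have := EtFound.push_preservesFiniteColimits p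
    exact LerayDegen.isZero_rightDerived_of_exact (EtCoh.push p) C m) q
  have hp' : Function.Bijective (EtLim.HofPush (pullback.snd p h) ((EtCoh.pull (pullback.fst p h)).obj C) q) :=
    BigSiteLib.hofPush_bijective _ _ (fun j hj => by
      obtain ⟨m, rfl⟩ := Nat.exists_eq_succ_of_ne_zero hj.ne'
      have := EtFound.push_preservesFiniteLimits (pullback.snd p h)
      have := EtFound.push_preservesFiniteColimits (pullback.snd p h)
      exact LerayDegen.isZero_rightDerived_of_exact (EtCoh.push (pullback.snd p h)) _ m) q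
  have hb : Function.Bijective (hmap (EtCoh.baseChange0 p h (pullback.snd p h) (pullback.fst p h) pullback.condition C) q) :=
    hmap_bijective_of_isIso _ q
  refine ⟨fun hi a b hab => hp.1 (hi ?_), fun hs y => ?_⟩
  · rw [key, key, hab]
  · obtain ⟨c, hc⟩ := hs (EtLim.HofPush (pullback.snd p h) _ q
      (hmap (EtCoh.baseChange0 p h (pullback.snd p h) (pullback.fst p h) pullback.condition C) q y))
    obtain ⟨ζ, rfl⟩ := hp.2 c
    exact ⟨ζ, hb.1 (hp'.1 ((key ζ).symm.trans hc))⟩

omit [IsFinite p] in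
/-- Comparison for a finite sum. -/
theorem comparison_biproduct {b : ℕ} (E : Fin b → EtCoh.Ab X) (q : ℕ) :
    ((∀ j, Function.Injective (EtCore.Hpull h (E j) q)) → Function.Injective (EtCore.Hpull h (⨁ E) q)) ∧
    ((∀ j, Function.Surjective (EtCore.Hpull h (E j) q)) → Function.Surjective (EtCore.Hpull h (⨁ E) q)) := by
  haveI : PreservesColimitsOfSize.{0, 0} (EtCoh.pull h) := (EtCoh.pullPushAdj h).leftAdjoint_preservesColimits
  haveI : (EtCoh.pull h).Additive := Functor.additive_of_preserves_binary_products _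
  refine ⟨fun hi => (injective_iff_map_eq_zero _).2 fun x hx => ?_, fun hs y => ?_⟩
  · have h0 : ∀ j, hmap (biproduct.π E j) q x = 0 := fun j => hi j (by
      rw [map_zero, Hpull_hmap, hx, map_zero])
    have : x = ∑ j, hmap (biproduct.ι E j) q (hmap (biproduct.π E j) q x) := by
      simp only [hmap_comp, hmap_sum, biproduct.total, hmap_id]
    rw [this]
    exact Finset.sum_eq_zero fun j _ => by rw [h0 j, map_zero]
  · choose a ha using fun j => hs j (hmap ((EtCoh.pull h).map (biproduct.π E j)) q y)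
    refine ⟨∑ j, hmap (biproduct.ι E j) q (a j), ?_⟩
    rw [map_sum]
    simp only [Hpull_hmap, ha, hmap_comp, ← Functor.map_comp, hmap_sum, ← Functor.map_sum, biproduct.total,
      CategoryTheory.Functor.map_id, hmap_id]

end Groth.Agent.CohCrit13
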